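import Mathlib
import Groth.Agent.SBStableLib.Birat

/-!
# Rational schemes and products
-/

set_option autoImplicit false
set_option linter.style.haveILetI false
set_option linter.unusedSectionVars false
universe u

open CategoryTheory CategoryTheory.Limits AlgebraicGeometry MvPolynomial

noncomputable section

namespace SpecialQuotLib

variable (k : Type u) [Field k]

/-- `k[X_1, …, X_n]` on the nose. -/
abbrev polyHom (n : Type u) : Spec (CommRingCat.of (MvPolynomial n k)) ⟶ Spec (CommRingCat.of k) :=
  Spec.map (CommRingCat.ofHom (algebraMap k (MvPolynomial n k)))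

theorem affineSpace_birat (n : Type u) :
    Scheme.BirationalOver (𝔸(n; Spec (CommRingCat.of k)) ↘ Spec (CommRingCat.of k)) (polyHom k n) :=
  Scheme.BirationalOver.symm
    (SBStable.birationalOver_of_iso (AffineSpace.SpecIso n (CommRingCat.of k)).symm (AffineSpace.SpecIso_inv_over _))

/-- A finitely generated localisation of a polynomial ring has finitely many variables. -/
theorem finite_of_away (n : Type u) (f : MvPolynomial n k) (hf : f ≠ 0)
    [Algebra.FiniteType k (Localization.Away f)] : Finite n := by
  classical
  by_contra hn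
  haveI : Infinite n := not_finite_iff_infinite.mp hn
  obtain ⟨s, hs⟩ := (inferInstance : Algebra.FiniteType k (Localization.Away f)).out
  have hsurj : ∀ x : Localization.Away f, ∃ (a : MvPolynomial n k) (c : Submonoid.powers f),
      x * algebraMap _ _ (c : MvPolynomial n k) = algebraMap _ _ a := fun x => by
    obtain ⟨⟨a, c⟩, h⟩ := IsLocalization.surj (Submonoid.powers f) x
    exact ⟨a, c, h⟩
  choose a b hab using hsurj
  obtain ⟨i, hi⟩ := Infinite.exists_notMem_finset (f.vars ∪ s.biUnion fun x => (a x).vars)
  simp only [Finset.mem_union, Finset.mem_biUnion, not_or, not_exists, not_and] at hi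
  let σ : MvPolynomial n k →ₐ[k] MvPolynomial n k := aeval (Function.update X i (X i + 1))
  have hσ : ∀ p : MvPolynomial n k, i ∉ p.vars → σ p = p := by
    intro p hp
    conv_rhs => rw [← aeval_X_left_apply p]
    exact eval₂Hom_congr' rfl (fun j hj _ => Function.update_of_ne (fun h => hp (by rwa [h] at hj)) _ _) rfl
  let τ : Localization.Away f →ₐ[k] Localization.Away f :=
    IsLocalization.Away.liftAlgHom f (f := (IsScalarTower.toAlgHom k (MvPolynomial n k) (Localization.Away f)).comp σ)
      (by rw [AlgHom.comp_apply, hσ f hi.1]; exact IsLocalization.Away.algebraMap_isUnit f)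
  have hτ : ∀ p, τ (algebraMap (MvPolynomial n k) _ p) = algebraMap _ _ (σ p) := fun p => by
    simp [τ]
  have : τ = AlgHom.id k _ := by
    refine AlgHom.ext_of_adjoin_eq_top hs fun x hx => ?_
    have hb : IsUnit (algebraMap (MvPolynomial n k) (Localization.Away f) (b x)) :=
      IsLocalization.map_units _ (b x)
    refine hb.mul_right_cancel ?_
    show τ x * _ = x * _
    rw [hab x]
    have e := congrArg τ (hab x)
    rw [map_mul, hτ, hτ, hσ _ (hi.2 x hx)] at e
    obtain ⟨m, hm⟩ := (b x).2
    rw [← hm, map_pow, hσ f hi.1] at e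
    rw [← hm]
    exact e
  have h1 := congrArg (fun φ : Localization.Away f →ₐ[k] Localization.Away f => φ (algebraMap (MvPolynomial n k) (Localization.Away f) (X i))) this
  simp only [AlgHom.id_apply, hτ] at h1
  have := IsLocalization.injective (Localization.Away f) (powers_le_nonZeroDivisors_of_noZeroDivisors hf) h1
  simp [σ] at this

/-- Rational schemes locally of finite type are birational to a finite dimensional affine space. -/
theorem exists_fin {X : Scheme.{u}} (sX : X ⟶ Spec (CommRingCat.of k)) [LocallyOfFiniteType sX]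
    [Scheme.IsRationalOver sX] :
    ∃ r : ℕ, Scheme.BirationalOver sX (Spec.map (CommRingCat.ofHom (algebraMap k (MvPolynomial (Fin r) k)))) := by
  classical
  obtain ⟨n, hn⟩ := Scheme.IsRationalOver.exists_birationalOver_affineSpace sX
  have hn' := hn.trans (affineSpace_birat k n)
  obtain ⟨P, hP⟩ := hn'
  let A := Spec (CommRingCat.of (MvPolynomial n k))
  haveI : Nonempty A := inferInstanceAs (Nonempty (PrimeSpectrum (MvPolynomial n k)))
  obtain ⟨x, hx⟩ := P.dense_target.nonempty
  obtain ⟨_, ⟨_, ⟨f, rfl⟩, rfl⟩, hxf, hfU⟩ :=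
    PrimeSpectrum.isBasis_basic_opens.exists_subset_of_mem_open hx P.target.isOpen
  have hf0 : f ≠ 0 := by
    rintro rfl
    exact hxf (Ideal.zero_mem _)
  haveI : Algebra.FiniteType k (Localization.Away f) := by
    let j : Spec (CommRingCat.of (Localization.Away f)) ⟶ A :=
      Spec.map (CommRingCat.ofHom (algebraMap (MvPolynomial n k) (Localization.Away f)))
    have hr : Set.range j ⊆ Set.range P.target.ι := by
      rw [Scheme.Opens.range_ι]
      refine subset_trans ?_ hfU
      exact (PrimeSpectrum.localization_away_comap_range (Localization.Away f) f).subset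
    let l := IsOpenImmersion.lift P.target.ι j hr
    haveI : IsOpenImmersion j := IsOpenImmersion.of_isLocalization f
    haveI : IsOpenImmersion l := by
      haveI : IsOpenImmersion (l ≫ P.target.ι) := by rw [IsOpenImmersion.lift_fac]; infer_instance
      exact IsOpenImmersion.of_comp l P.target.ι
    have : LocallyOfFiniteType (j ≫ polyHom k n) := by
      have e : l ≫ P.iso.inv ≫ P.source.ι ≫ sX = j ≫ polyHom k n := by
        rw [← hP, Iso.inv_hom_id_assoc, IsOpenImmersion.lift_fac_assoc]
      rw [← e]
      infer_instance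
    rw [show j ≫ polyHom k n = Spec.map (CommRingCat.ofHom (algebraMap k (Localization.Away f))) from by
      rw [← Spec.map_comp, ← CommRingCat.ofHom_comp, ← IsScalarTower.algebraMap_eq]] at this
    exact RingHom.finiteType_algebraMap.mp ((HasRingHomProperty.Spec_iff (P := @LocallyOfFiniteType)).mp this)
  haveI := finite_of_away k n f hf0
  obtain ⟨r, ⟨e⟩⟩ := Finite.exists_equiv_fin n
  refine ⟨r, hn.trans ((affineSpace_birat k n).trans ?_)⟩
  refine SBStable.birationalOver_of_iso
    (Scheme.Spec.mapIso (renameEquiv k e.symm).toRingEquiv.toCommRingCatIso.op) ?_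
  show Spec.map _ ≫ Spec.map _ = _
  rw [← Spec.map_comp]
  congr 1
  refine CommRingCat.hom_ext (RingHom.ext fun c => ?_)
  exact (renameEquiv k e.symm).commutes c

/-- Products with rational schemes. -/
theorem birat_prod {X Q : Scheme.{u}} (sX : X ⟶ Spec (CommRingCat.of k)) (sQ : Q ⟶ Spec (CommRingCat.of k))
    [LocallyOfFiniteType sX] [LocallyOfFiniteType sQ] [Scheme.IsRationalOver sX] :
    ∃ r : ℕ, Scheme.BirationalOver (pullback.fst sX sQ ≫ sX)
      (pullback.fst sQ (Spec.map (CommRingCat.ofHom (algebraMap k (MvPolynomial (Fin r) k)))) ≫ sQ) := by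
  obtain ⟨r, hr⟩ := exists_fin k sX
  haveI : UniversallyOpen sQ := UniversallyOpen.of_flat sQ
  refine ⟨r, (SBStable.birationalOver_baseChange hr sQ).trans ?_⟩
  refine SBStable.birationalOver_of_iso (pullbackSymmetry _ _) ?_
  rw [pullbackSymmetry_hom_comp_fst_assoc, pullback.condition]

end SpecialQuotLib
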