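import Groth.Agent.SpecialQuotLib.Torsor
import Groth.Agent.SpecialQuotLib.Birat
import Groth.Agent.AlgSpLib.SrcDescent

/-!
# The no-name lemma for quotients by a common subgroup of special groups
-/

set_option autoImplicit false
set_option linter.style.haveILetI false
set_option linter.unusedSectionVars false
universe u

open CategoryTheory CategoryTheory.Limits MonoidalCategory CartesianMonoidalCategory AlgebraicGeometry Topology
open scoped MonObj

noncomputable section

namespace SpecialQuotLib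

variable {k : Type u} [Field k]

/-- The hypothesis "special". -/
def IsSpecial (G₁ : Over (Spec (CommRingCat.of k))) [GrpObj G₁] : Prop :=
  ∀ (X' Y' : Over (Spec (CommRingCat.of k))) (a : AlgGrp.Action G₁ X') (p : X' ⟶ Y'),
      LocallyOfFiniteType X'.hom → QuasiCompact X'.hom → LocallyOfFiniteType Y'.hom → QuasiCompact Y'.hom →
      Flat p.left → Surjective p.left → IsPullback a.act.left (snd G₁ X').left p.left p.left →
      ∀ y : ↥Y'.left, ∃ (W : Y'.left.Opens) (s : (W : Scheme.{u}) ⟶ X'.left), y ∈ W ∧ s ≫ p.left = W.ι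

theorem irreducibleSpace_of_rational {X : Scheme.{u}} (sX : X ⟶ Spec (CommRingCat.of k)) [LocallyOfFiniteType sX]
    [Scheme.IsRationalOver sX] : IrreducibleSpace X := by
  obtain ⟨r, P, -⟩ := exists_fin k sX
  let A := Spec (CommRingCat.of (MvPolynomial (Fin r) k))
  haveI : IrreducibleSpace A := inferInstanceAs (IrreducibleSpace (PrimeSpectrum (MvPolynomial (Fin r) k)))
  haveI : Nonempty P.target := P.dense_target.nonempty.to_subtype
  haveI : IrreducibleSpace P.target.toScheme :=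
    isIrreducible_iff_irreducibleSpace.mp
      ⟨P.dense_target.nonempty, (PreirreducibleSpace.isPreirreducible_univ (X := A)).open_subset P.target.isOpen
        (Set.subset_univ _)⟩
  haveI : IrreducibleSpace P.source.toScheme := (P.iso.hom.homeomorph).symm.surjective.irreducibleSpace
    (P.iso.hom.homeomorph).symm.continuous
  have h : IsIrreducible (P.source : Set X) := isIrreducible_iff_irreducibleSpace.mpr ‹_›
  haveI : Nonempty X := ⟨h.nonempty.some⟩
  haveI : PreirreducibleSpace X := ⟨by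
    rw [← P.dense_source.closure_eq]
    exact h.closure.isPreirreducible⟩
  exact ⟨inferInstance⟩

variable {G G₁ G₂ : Over (Spec (CommRingCat.of k))} [GrpObj G] [GrpObj G₁] [GrpObj G₂]

/-- Restriction of an action along a homomorphism. -/
def pullAct {S : Scheme.{u}} {G H X : Over S} [GrpObj G] [GrpObj H] (φ : H ⟶ G) [IsMonHom φ]
    (A : AlgGrp.Action G X) : AlgGrp.Action H X where
  act := lift (fst H X ≫ φ) (snd H X) ≫ A.act
  one_act := by
    rw [comp_lift_assoc, whiskerRight_snd, ← Category.assoc, whiskerRight_fst, Category.assoc,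
      IsMonHom.one_hom (f := φ), leftUnitor_hom]
    have : fst (𝟙_ (Over S)) X ≫ η[G] = (1 : 𝟙_ (Over S) ⊗ X ⟶ G) := by
      rw [Hom.one_def]; congr 1
    rw [this, act_one]
  mul_act := by
    rw [comp_lift_assoc, whiskerRight_snd, ← Category.assoc, whiskerRight_fst, Category.assoc]
    have : fst (H ⊗ H) X ≫ μ[H] ≫ φ =
        (fst (H ⊗ H) X ≫ fst H H ≫ φ) * (fst (H ⊗ H) X ≫ snd H H ≫ φ) := by
      rw [← Category.assoc, ← Category.assoc (fst _ X) (fst H H), ← Category.assoc (fst _ X) (snd H H), ← MonObj.mul_comp]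
      congr 1
      simp [Hom.mul_def, ← comp_lift_assoc]
    rw [this, act_mul]
    simp [comp_lift_assoc]

theorem isPullback_whiskerLeft' {S : Scheme.{u}} (T : Over S) {Y Z : Over S} (g : Y ⟶ Z) :
    IsPullback (T ◁ g).left (snd T Y).left (snd T Z).left g.left := by
  show IsPullback (T ◁ g).left (pullback.snd T.hom Y.hom) (pullback.snd T.hom Z.hom) g.left
  refine IsPullback.of_right ?_ ?_ (IsPullback.of_hasPullback T.hom Z.hom)
  · rw [Over.w g, Over.whiskerLeft_left_fst]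
    exact IsPullback.of_hasPullback T.hom Y.hom
  · exact Over.whiskerLeft_left_snd g

/-- `(G₁ × G₂)/G` is birational to `G₁/G × 𝔸ʳ`. -/
theorem birat_side [QuasiCompact G₁.hom] [QuasiCompact G₂.hom] [LocallyOfFiniteType G₁.hom]
    [LocallyOfFiniteType G₂.hom] (i₁ : G ⟶ G₁) (i₂ : G ⟶ G₂) [IsMonHom i₁] [IsMonHom i₂] [Mono i₁]
    [Scheme.IsRationalOver G₁.hom] [Scheme.IsRationalOver G₂.hom] (hsp : IsSpecial G₂)
    {Q W : Over (Spec (CommRingCat.of k))} (a : AlgGrp.Action G₁ Q)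
    (o : 𝟙_ (Over (Spec (CommRingCat.of k))) ⟶ Q) (hQ : AGF.IsQuotient i₁ Q a o)
    (A : AlgGrp.Action (G₁ ⊗ G₂) W) (w₀ : 𝟙_ (Over (Spec (CommRingCat.of k))) ⟶ W)
    (hW : AGF.IsQuotient (lift i₁ i₂) W A w₀) (hqc : QuasiCompact W.hom) :
    ∃ r : ℕ, Scheme.BirationalOver W.hom
      (pullback.fst Q.hom (Spec.map (CommRingCat.ofHom (algebraMap k (MvPolynomial (Fin r) k)))) ≫ Q.hom) := by
  obtain ⟨hQlft, hQfl, hQs, hQsq⟩ := hQ
  obtain ⟨hWlft, hWfl, hWs, hWsq⟩ := hW
  haveI : QuasiCompact (G₁ ⊗ G₂).hom :=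
    inferInstanceAs (QuasiCompact (pullback.fst G₁.hom G₂.hom ≫ G₁.hom))
  haveI : QuasiCompact (A.orbitMap w₀).left := by
    haveI : IsLocallyNoetherian W.left := LocallyOfFiniteType.isLocallyNoetherian W.hom
    haveI : QuasiCompact ((A.orbitMap w₀).left ≫ W.hom) := by rw [Over.w]; infer_instance
    exact QuasiCompact.of_comp (A.orbitMap w₀).left W.hom
  have hcov : Cov (A.orbitMap w₀) := ⟨hWfl, hWs, inferInstance⟩
  obtain ⟨ψ, hψ⟩ := exists_proj i₁ i₂ a o hQsq A w₀ hWsq hcov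
  have hsq := isPullback_act₂ i₁ i₂ a o hQsq A w₀ hWsq hcov ψ hψ
  have hψl : (A.orbitMap w₀).left ≫ ψ.left = (fst G₁ G₂).left ≫ (a.orbitMap o).left :=
    congrArg CommaMorphism.left hψ
  have hpt : ∀ (H : Over (Spec (CommRingCat.of k))) [GrpObj H], Surjective H.hom := fun H _ =>
    ⟨fun s => ⟨(η[H] : 𝟙_ _ ⟶ H).left s, by
      rw [← Scheme.Hom.comp_apply, Over.w]; rfl⟩⟩
  haveI : Surjective G₂.hom := hpt G₂
  haveI : Surjective ((A.orbitMap w₀).left ≫ ψ.left) := by
    rw [hψl]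
    haveI : Surjective (fst G₁ G₂).left := inferInstanceAs (Surjective (pullback.fst G₁.hom G₂.hom))
    infer_instance
  haveI hψs : Surjective ψ.left := Surjective.of_comp (A.orbitMap w₀).left ψ.left
  haveI hψf : Flat ψ.left := by
    refine AlgSpLib.flat_of_flat_surjective_comp (A.orbitMap w₀).left ψ.left ?_
    rw [hψl]
    haveI : Flat (fst G₁ G₂).left := inferInstanceAs (Flat (pullback.fst G₁.hom G₂.hom))
    infer_instance
  haveI : CompactSpace Q.left := by
    haveI : CompactSpace G₁.left := QuasiCompact.compactSpace_of_compactSpace G₁.hom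
    exact (a.orbitMap o).left.surjective.compactSpace (a.orbitMap o).left.continuous
  haveI : QuasiCompact Q.hom := inferInstance
  haveI : IrreducibleSpace G₁.left := irreducibleSpace_of_rational G₁.hom
  haveI : IrreducibleSpace Q.left :=
    (a.orbitMap o).left.surjective.irreducibleSpace (a.orbitMap o).left.continuous
  obtain ⟨Wo, s, hy, hs⟩ := hsp W Q (act₂ A) ψ hWlft hqc hQlft inferInstance hψf hψs hsq
    (genericPoint Q.left)
  have hWod : Dense (Wo : Set Q.left) := Wo.isOpen.dense ⟨_, hy⟩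
  let Q' : Over (Spec (CommRingCat.of k)) := Over.mk (Wo.ι ≫ Q.hom)
  let s' : Q' ⟶ W := Over.homMk s (by
    show s ≫ W.hom = Wo.ι ≫ Q.hom
    rw [← Over.w ψ, reassoc_of% hs])
  have sqθ : IsPullback ((G₂ ◁ s').left ≫ (act₂ A).act.left) (snd G₂ Q').left ψ.left Wo.ι := by
    rw [← hs]
    exact (isPullback_whiskerLeft' G₂ s').paste_horiz hsq
  let θ := (G₂ ◁ s').left ≫ (act₂ A).act.left
  haveI : IsOpenImmersion θ :=
    MorphismProperty.of_isPullback (P := @IsOpenImmersion) sqθ.flip inferInstance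
  haveI : LocallyOfFinitePresentation ψ.left := by
    haveI : IsLocallyNoetherian Q.left := LocallyOfFiniteType.isLocallyNoetherian Q.hom
    haveI : LocallyOfFiniteType (ψ.left ≫ Q.hom) := by rw [Over.w]; infer_instance
    haveI : LocallyOfFiniteType ψ.left := locallyOfFiniteType_of_comp ψ.left Q.hom
    exact LocallyOfFinitePresentation.iff_locallyOfFiniteType.mpr inferInstance
  haveI : UniversallyOpen ψ.left := UniversallyOpen.of_flat ψ.left
  have hdense : DenseRange θ := by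
    have hr : Set.range θ = ψ.left ⁻¹' (Wo : Set Q.left) := by
      refine Set.Subset.antisymm ?_ fun w hw => ?_
      · rintro _ ⟨z, rfl⟩
        show ψ.left (θ z) ∈ Wo
        rw [← Scheme.Hom.comp_apply, sqθ.w]
        exact ((snd G₂ Q').left z).2
      · obtain ⟨z, hz⟩ := Scheme.Pullback.exists_preimage_pullback (f := ψ.left) (g := Wo.ι) w ⟨_, hw⟩ rfl
        refine ⟨sqθ.isoPullback.inv z, ?_⟩
        rw [← Scheme.Hom.comp_apply, sqθ.isoPullback_inv_fst]
        exact hz.1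
    rw [DenseRange, hr]
    exact hWod.preimage ψ.left.isOpenMap
  have b1 : Scheme.BirationalOver (θ ≫ W.hom) W.hom := SBStable.birationalOver_of_openImmersion θ hdense _
  have eθ : θ ≫ W.hom = pullback.fst G₂.hom (Wo.ι ≫ Q.hom) ≫ G₂.hom := by
    rw [← Over.w ψ, ← Category.assoc, show θ ≫ ψ.left = _ from sqθ.w, Category.assoc]
    exact (pullback.condition (f := G₂.hom) (g := Wo.ι ≫ Q.hom)).symm
  rw [eθ] at b1
  obtain ⟨r, b2⟩ := birat_prod k G₂.hom (Wo.ι ≫ Q.hom)
  refine ⟨r, b1.symm.trans (b2.trans ?_)⟩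
  haveI : UniversallyOpen (Spec.map (CommRingCat.ofHom (algebraMap k (MvPolynomial (Fin r) k)))) := by
    haveI : LocallyOfFiniteType (Spec.map (CommRingCat.ofHom (algebraMap k (MvPolynomial (Fin r) k)))) :=
      (HasRingHomProperty.Spec_iff (P := @LocallyOfFiniteType)).mpr
        (RingHom.finiteType_algebraMap.mpr inferInstance)
    exact UniversallyOpen.of_flat _
  exact SBStable.birationalOver_baseChange (Wo.birationalOver_of_dense Q.hom hWod) _

/-- `G₁/G` and `G₂/G` are stably birational. -/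
theorem birat_main [IsAffine G₁.left] [IsAffine G₂.left] [LocallyOfFiniteType G₁.hom]
    [LocallyOfFiniteType G₂.hom] [LocallyOfFiniteType G.hom] [QuasiCompact G.hom] (i₁ : G ⟶ G₁) (i₂ : G ⟶ G₂)
    [IsMonHom i₁] [IsMonHom i₂] [Mono i₁] [Mono i₂]
    [Scheme.IsRationalOver G₁.hom] [Scheme.IsRationalOver G₂.hom] (hsp₁ : IsSpecial G₁) (hsp₂ : IsSpecial G₂)
    {Q₁ Q₂ : Over (Spec (CommRingCat.of k))} (a₁ : AlgGrp.Action G₁ Q₁) (a₂ : AlgGrp.Action G₂ Q₂)
    (o₁ : 𝟙_ (Over (Spec (CommRingCat.of k))) ⟶ Q₁) (o₂ : 𝟙_ (Over (Spec (CommRingCat.of k))) ⟶ Q₂)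
    (hQ₁ : AGF.IsQuotient i₁ Q₁ a₁ o₁) (hQ₂ : AGF.IsQuotient i₂ Q₂ a₂ o₂)
    (hex : ∀ (H : Over (Spec (CommRingCat.of k))) [GrpObj H], IsAffine H.left → LocallyOfFiniteType H.hom →
      ∀ (j : G ⟶ H), IsMonHom j → Mono j → ∃ (X : Over (Spec (CommRingCat.of k))) (A : AlgGrp.Action H X)
        (w : 𝟙_ (Over (Spec (CommRingCat.of k))) ⟶ X), QuasiCompact X.hom ∧ AGF.IsQuotient j X A w) :
    ∃ r s : ℕ, Scheme.BirationalOver
      (pullback.fst Q₁.hom (Spec.map (CommRingCat.ofHom (algebraMap k (MvPolynomial (Fin r) k)))) ≫ Q₁.hom)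
      (pullback.fst Q₂.hom (Spec.map (CommRingCat.ofHom (algebraMap k (MvPolynomial (Fin s) k)))) ≫ Q₂.hom) := by
  haveI : QuasiCompact G₁.hom := inferInstance
  haveI : QuasiCompact G₂.hom := inferInstance
  haveI : IsAffine (G₁ ⊗ G₂).left := inferInstanceAs (IsAffine (pullback G₁.hom G₂.hom))
  haveI : LocallyOfFiniteType (G₁ ⊗ G₂).hom :=
    inferInstanceAs (LocallyOfFiniteType (pullback.fst G₁.hom G₂.hom ≫ G₁.hom))
  haveI : Mono (lift i₁ i₂) := by
    refine ⟨fun g h e => ?_⟩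
    rw [← cancel_mono i₁]
    simpa using congrArg (· ≫ fst G₁ G₂) e
  obtain ⟨W, A, w₀, hqc, hW⟩ := hex (G₁ ⊗ G₂) inferInstance inferInstance (lift i₁ i₂) inferInstance inferInstance
  obtain ⟨r, hr⟩ := birat_side i₁ i₂ hsp₂ a₁ o₁ hQ₁ A w₀ hW hqc
  -- the swapped quotient
  let σ : G₂ ⊗ G₁ ⟶ G₁ ⊗ G₂ := lift (snd G₂ G₁) (fst G₂ G₁)
  let τ : G₁ ⊗ G₂ ⟶ G₂ ⊗ G₁ := lift (snd G₁ G₂) (fst G₁ G₂)
  haveI : IsIso σ := ⟨τ, by ext <;> simp [σ, τ], by ext <;> simp [σ, τ]⟩
  let A' : AlgGrp.Action (G₂ ⊗ G₁) W := pullAct σ A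
  have ho : A'.orbitMap w₀ = σ ≫ A.orbitMap w₀ := by
    simp [AlgGrp.Action.orbitMap, A', pullAct, comp_lift_assoc]
  have hW' : AGF.IsQuotient (lift i₂ i₁) W A' w₀ := by
    obtain ⟨h1, h2, h3, h4⟩ := hW
    haveI : IsIso σ.left := inferInstanceAs (IsIso ((Over.forget _).map σ))
    refine ⟨h1, ?_, ?_, ?_⟩
    · rw [ho]
      show Flat (σ.left ≫ (A.orbitMap w₀).left)
      infer_instance
    · rw [ho]
      show Surjective (σ.left ≫ (A.orbitMap w₀).left)
      infer_instance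
    · rw [ho]
      refine IsPullback.of_iso h4 ((asIso σ).symm ⊗ᵢ Iso.refl G) (asIso σ).symm (asIso σ).symm (Iso.refl W)
        (by simp) ?_ (by simp) (by simp)
      rw [Iso.symm_hom, asIso_inv, ← cancel_mono σ, Category.assoc, IsIso.inv_hom_id, Category.comp_id]
      have hwl : ∀ {M H : Over (Spec (CommRingCat.of k))} [GrpObj M] (j : H ⟶ M),
          (M ◁ j) ≫ μ[M] = fst M H * (snd M H ≫ j) := fun {M H} _ j => by
        rw [show M ◁ j = lift (fst M H) (snd M H ≫ j) from by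
          apply CartesianMonoidalCategory.hom_ext <;> simp, Hom.mul_def]
      have : lift i₂ i₁ ≫ σ = lift i₁ i₂ := by
        apply CartesianMonoidalCategory.hom_ext <;> simp [σ]
      rw [hwl, hwl]
      simp [MonObj.mul_comp, MonObj.comp_mul, this]
      apply CartesianMonoidalCategory.hom_ext <;> simp [σ]
  obtain ⟨s, hs⟩ := birat_side i₂ i₁ hsp₁ a₂ o₂ hQ₂ A' w₀ hW' hqc
  exact ⟨r, s, hr.symm.trans hs⟩

end SpecialQuotLib
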