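import Groth.Prelude.Def_AGF
import Mathlib

/-!
# The torsor `(G₁ × G₂)/G ⟶ G₁/G`
-/

set_option autoImplicit false
set_option linter.style.haveILetI false
set_option linter.unusedSectionVars false
universe u

open CategoryTheory CategoryTheory.Limits MonoidalCategory CartesianMonoidalCategory AlgebraicGeometry
open scoped MonObj

noncomputable section

namespace SpecialQuotLib

variable {S : Scheme.{u}}

/-- An fpqc morphism over the base: morphisms descend along it. -/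
def Cov {T' T : Over S} (p : T' ⟶ T) : Prop := Flat p.left ∧ Surjective p.left ∧ QuasiCompact p.left

theorem Cov.descend {T' T Z : Over S} {p : T' ⟶ T} (hp : Cov p) (f : T' ⟶ Z)
    (h : ∀ {U : Over S} (a b : U ⟶ T'), a ≫ p = b ≫ p → a ≫ f = b ≫ f) : ∃ g : T ⟶ Z, p ≫ g = f := by
  obtain ⟨_, _, _⟩ := hp
  have hl : ∀ {U : Scheme.{u}} (a b : U ⟶ T'.left), a ≫ p.left = b ≫ p.left → a ≫ f.left = b ≫ f.left := by
    intro U a b e
    have hb : b ≫ T'.hom = a ≫ T'.hom := by rw [← Over.w p, ← Category.assoc, ← e, Category.assoc]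
    exact congrArg CommaMorphism.left
      (h (U := Over.mk (a ≫ T'.hom)) (Over.homMk a) (Over.homMk b hb) (Over.OverMorphism.ext e))
  let g := EffectiveEpi.desc p.left f.left hl
  have hg : p.left ≫ g = f.left := EffectiveEpi.fac _ _ _
  exact ⟨Over.homMk g (by rw [← cancel_epi p.left, ← Category.assoc, hg, Over.w f, Over.w p]),
    Over.OverMorphism.ext hg⟩

theorem Cov.cancel {T' T Z : Over S} {p : T' ⟶ T} (hp : Cov p) {f g : T ⟶ Z} (h : p ≫ f = p ≫ g) : f = g := by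
  obtain ⟨_, _, _⟩ := hp
  exact Over.OverMorphism.ext ((cancel_epi p.left).mp (congrArg CommaMorphism.left h))

theorem Cov.exists_lift {T T' W : Over S} {p : T' ⟶ W} (hp : Cov p) (w : T ⟶ W) :
    ∃ (U : Over S) (c : U ⟶ T) (g : U ⟶ T'), Cov c ∧ g ≫ p = c ≫ w := by
  obtain ⟨_, _, _⟩ := hp
  refine ⟨Over.mk (pullback.fst w.left p.left ≫ T.hom), Over.homMk (pullback.fst w.left p.left),
    Over.homMk (pullback.snd w.left p.left) ?_, ⟨?_, ?_, ?_⟩, Over.OverMorphism.ext pullback.condition.symm⟩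
  · show pullback.snd w.left p.left ≫ T'.hom = pullback.fst w.left p.left ≫ T.hom
    rw [← Over.w p, ← pullback.condition_assoc, Over.w w]
  · show Flat (pullback.fst w.left p.left); infer_instance
  · show Surjective (pullback.fst w.left p.left); infer_instance
  · show QuasiCompact (pullback.fst w.left p.left); infer_instance

theorem Cov.comp {T'' T' T : Over S} {p : T'' ⟶ T'} {q : T' ⟶ T} (hp : Cov p) (hq : Cov q) : Cov (p ≫ q) := by
  obtain ⟨_, _, _⟩ := hp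
  obtain ⟨_, _, _⟩ := hq
  refine ⟨?_, ?_, ?_⟩
  · show Flat (p.left ≫ q.left); infer_instance
  · show Surjective (p.left ≫ q.left); infer_instance
  · show QuasiCompact (p.left ≫ q.left); infer_instance

section Act

variable {G X : Over S} [GrpObj G] (a : AlgGrp.Action G X)

theorem act_one {T : Over S} (x : T ⟶ X) : lift (1 : T ⟶ G) x ≫ a.act = x := by
  have h := lift (toUnit T) x ≫= a.one_act
  rw [← Category.assoc, lift_whiskerRight] at h
  rw [Hom.one_def, h]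
  simp

theorem act_mul {T : Over S} (g h : T ⟶ G) (x : T ⟶ X) :
    lift (g * h) x ≫ a.act = lift g (lift h x ≫ a.act) ≫ a.act := by
  have h' := lift (lift g h) x ≫= a.mul_act
  rw [← Category.assoc, lift_whiskerRight, ← Category.assoc, lift_lift_associator_hom, ← Category.assoc,
    lift_whiskerLeft] at h'
  rw [Hom.mul_def, h']

/-- The translate of the base point. -/
theorem orbit_apply (o : 𝟙_ (Over S) ⟶ X) {T : Over S} (g : T ⟶ G) :
    g ≫ a.orbitMap o = lift g (toUnit T ≫ o) ≫ a.act := by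
  rw [AlgGrp.Action.orbitMap, comp_lift_assoc, Category.comp_id, ← Category.assoc, comp_toUnit]

theorem orbit_mul (o : 𝟙_ (Over S) ⟶ X) {T : Over S} (g h : T ⟶ G) :
    (g * h) ≫ a.orbitMap o = lift g (h ≫ a.orbitMap o) ≫ a.act := by
  rw [orbit_apply, orbit_apply, act_mul]

variable {H : Over S} (i : H ⟶ G) (o : 𝟙_ (Over S) ⟶ X)
  (hsq : IsPullback (fst G H) ((G ◁ i) ≫ μ[G]) (a.orbitMap o) (a.orbitMap o))

include hsq in
theorem orbit_eq_iff {T : Over S} (g g' : T ⟶ G) :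
    g ≫ a.orbitMap o = g' ≫ a.orbitMap o ↔ ∃ h : T ⟶ H, g' = g * (h ≫ i) := by
  constructor
  · intro e
    obtain ⟨t, h1, h2⟩ : ∃ t : T ⟶ G ⊗ H, t ≫ fst G H = g ∧ t ≫ (G ◁ i) ≫ μ[G] = g' :=
      ⟨hsq.lift g g' e, hsq.lift_fst g g' e, hsq.lift_snd g g' e⟩
    refine ⟨t ≫ snd G H, ?_⟩
    rw [← h1, ← h2, show G ◁ i = lift (fst G H) (snd G H ≫ i) from by ext <;> simp]
    simp [Hom.mul_def, ← comp_lift_assoc]
  · rintro ⟨h, rfl⟩
    have e := lift g h ≫= hsq.w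
    rw [lift_fst_assoc] at e
    rw [e]
    simp [Hom.mul_def]

end Act

section Main

variable {G G₁ G₂ : Over S} [GrpObj G] [GrpObj G₁] [GrpObj G₂] (i₁ : G ⟶ G₁) (i₂ : G ⟶ G₂)
  [IsMonHom i₁] [IsMonHom i₂] [Mono i₁]
  {Q W : Over S} (a : AlgGrp.Action G₁ Q) (o : 𝟙_ (Over S) ⟶ Q)
  (hQ : IsPullback (fst G₁ G) ((G₁ ◁ i₁) ≫ μ[G₁]) (a.orbitMap o) (a.orbitMap o))
  (A : AlgGrp.Action (G₁ ⊗ G₂) W) (w₀ : 𝟙_ (Over S) ⟶ W)
  (hW : IsPullback (fst (G₁ ⊗ G₂) G) (((G₁ ⊗ G₂) ◁ lift i₁ i₂) ≫ μ[G₁ ⊗ G₂]) (A.orbitMap w₀) (A.orbitMap w₀))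
  (hcov : Cov (A.orbitMap w₀))

theorem mul_fst {T : Over S} (g h : T ⟶ G₁ ⊗ G₂) : (g * h) ≫ fst G₁ G₂ = (g ≫ fst G₁ G₂) * (h ≫ fst G₁ G₂) := by
  simp [Hom.mul_def]

theorem mul_snd {T : Over S} (g h : T ⟶ G₁ ⊗ G₂) : (g * h) ≫ snd G₁ G₂ = (g ≫ snd G₁ G₂) * (h ≫ snd G₁ G₂) := by
  simp [Hom.mul_def]

theorem lift_mul_lift {T : Over S} (a₁ b₁ : T ⟶ G₁) (a₂ b₂ : T ⟶ G₂) :
    (lift a₁ a₂ * lift b₁ b₂ : T ⟶ G₁ ⊗ G₂) = lift (a₁ * b₁) (a₂ * b₂) := by
  refine CartesianMonoidalCategory.hom_ext _ _ ?_ ?_ <;> simp [mul_fst, mul_snd]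

theorem lift_one_one {T : Over S} : (lift 1 1 : T ⟶ G₁ ⊗ G₂) = 1 := by
  refine CartesianMonoidalCategory.hom_ext _ _ ?_ ?_ <;> simp [Hom.one_def]

include hQ hW hcov in
theorem exists_proj : ∃ ψ : W ⟶ Q, A.orbitMap w₀ ≫ ψ = fst G₁ G₂ ≫ a.orbitMap o := by
  refine hcov.descend _ fun {U} g g' e => ?_
  obtain ⟨h, rfl⟩ := (orbit_eq_iff A (lift i₁ i₂) w₀ hW g g').mp e
  rw [← Category.assoc, ← Category.assoc, mul_fst]
  refine (orbit_eq_iff a i₁ o hQ _ _).mpr ⟨h, ?_⟩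
  simp

/-- The action of the second factor. -/
def act₂ : AlgGrp.Action G₂ W where
  act := lift (lift (1 : G₂ ⊗ W ⟶ G₁) (fst G₂ W)) (snd G₂ W) ≫ A.act
  one_act := by
    rw [← Category.assoc, comp_lift, comp_lift]
    have e1 : (η[G₂] ▷ W) ≫ (1 : G₂ ⊗ W ⟶ G₁) = 1 := by simp [Hom.one_def]
    have e2 : (η[G₂] ▷ W) ≫ fst G₂ W = (1 : 𝟙_ (Over S) ⊗ W ⟶ G₂) := by
      rw [whiskerRight_fst, Hom.one_def]
      congr 1
    rw [e1, e2, whiskerRight_snd, lift_one_one, act_one, leftUnitor_hom]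
  mul_act := by
    simp only [← Category.assoc, comp_lift]
    have e1 : (μ[G₂] ▷ W) ≫ fst G₂ W = (fst (G₂ ⊗ G₂) W ≫ fst G₂ G₂) * (fst (G₂ ⊗ G₂) W ≫ snd G₂ G₂) := by
      simp [Hom.mul_def, ← comp_lift_assoc]
    have e2 : ∀ {T T' : Over S} (f : T ⟶ T'), f ≫ (1 : T' ⟶ G₁) = 1 := fun f => by simp [Hom.one_def]
    simp only [e1, e2, whiskerRight_snd]
    rw [show (lift (1 : (G₂ ⊗ G₂) ⊗ W ⟶ G₁) ((fst (G₂ ⊗ G₂) W ≫ fst G₂ G₂) * (fst (G₂ ⊗ G₂) W ≫ snd G₂ G₂))) =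
      lift 1 (fst (G₂ ⊗ G₂) W ≫ fst G₂ G₂) * lift 1 (fst (G₂ ⊗ G₂) W ≫ snd G₂ G₂) from by
        rw [lift_mul_lift, one_mul], act_mul]
    simp [comp_lift_assoc, Hom.one_def]

theorem act₂_apply {T : Over S} (g : T ⟶ G₂) (w : T ⟶ W) :
    lift g w ≫ (act₂ A).act = lift (lift 1 g) w ≫ A.act := by
  simp [act₂, comp_lift_assoc, Hom.one_def]

theorem act₂_orbit {T : Over S} (g : T ⟶ G₂) (x : T ⟶ G₁ ⊗ G₂) :
    lift g (x ≫ A.orbitMap w₀) ≫ (act₂ A).act = (lift 1 g * x) ≫ A.orbitMap w₀ := by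
  rw [act₂_apply, orbit_mul]

include hW hcov in
theorem act₂_free {T : Over S} {g g' : T ⟶ G₂} {w : T ⟶ W}
    (e : lift g w ≫ (act₂ A).act = lift g' w ≫ (act₂ A).act) : g = g' := by
  obtain ⟨U, c, x, hc, hx⟩ := hcov.exists_lift w
  refine hc.cancel ?_
  have e' := c ≫= e
  rw [comp_lift_assoc, comp_lift_assoc, ← hx, act₂_orbit, act₂_orbit] at e'
  obtain ⟨h, hh⟩ := (orbit_eq_iff A (lift i₁ i₂) w₀ hW _ _).mp e'
  have h1 := congrArg (· ≫ fst G₁ G₂) hh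
  have h2 := congrArg (· ≫ snd G₁ G₂) hh
  simp only [mul_fst, mul_snd, lift_fst, lift_snd, one_mul, Category.assoc] at h1 h2
  have h0 : h ≫ i₁ = (1 : U ⟶ G) ≫ i₁ := by
    rw [left_eq_mul.mp h1, MonObj.one_comp]
  rw [cancel_mono] at h0
  rw [h0, MonObj.one_comp, mul_one] at h2
  exact (mul_right_cancel h2).symm

variable (ψ : W ⟶ Q) (hψ : A.orbitMap w₀ ≫ ψ = fst G₁ G₂ ≫ a.orbitMap o)

include hψ hcov in
theorem act₂_proj : (act₂ A).act ≫ ψ = snd G₂ W ≫ ψ := by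
  obtain ⟨U, c, x, hc, hx⟩ := hcov.exists_lift (snd G₂ W)
  refine hc.cancel ?_
  rw [← Category.assoc, ← Category.assoc, ← hx]
  have : c ≫ (act₂ A).act = lift (c ≫ fst G₂ W) (x ≫ A.orbitMap w₀) ≫ (act₂ A).act := by
    rw [hx, ← comp_lift, lift_fst_snd, Category.comp_id]
  rw [this, act₂_orbit, Category.assoc, hψ, Category.assoc, hψ, ← Category.assoc, ← Category.assoc, mul_fst,
    lift_fst, one_mul]

include hQ hW hψ hcov in
theorem exists_translate {T : Over S} (w w' : T ⟶ W) (e : w ≫ ψ = w' ≫ ψ) :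
    ∃ g : T ⟶ G₂, lift g w ≫ (act₂ A).act = w' := by
  obtain ⟨U, c, x, hc, hx⟩ := hcov.exists_lift w
  obtain ⟨V, c', y, hc', hy⟩ := hcov.exists_lift (c ≫ w')
  have hcc := hc'.comp hc
  have hx' : (c' ≫ x) ≫ A.orbitMap w₀ = (c' ≫ c) ≫ w := by rw [Category.assoc, hx, Category.assoc]
  have hy' : y ≫ A.orbitMap w₀ = (c' ≫ c) ≫ w' := by rw [hy, Category.assoc]
  generalize c' ≫ x = z at hx'
  have e' : (z ≫ fst G₁ G₂) ≫ a.orbitMap o = (y ≫ fst G₁ G₂) ≫ a.orbitMap o := by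
    rw [Category.assoc, Category.assoc, ← hψ, ← Category.assoc, ← Category.assoc, hx', hy', Category.assoc _ w,
      Category.assoc _ w', e]
  obtain ⟨h, hh⟩ := (orbit_eq_iff a i₁ o hQ _ _).mp e'
  let g₀ : V ⟶ G₂ := (y ≫ snd G₁ G₂) * (h ≫ i₂)⁻¹ * (z ≫ snd G₁ G₂)⁻¹
  have hg₀ : lift g₀ ((c' ≫ c) ≫ w) ≫ (act₂ A).act = (c' ≫ c) ≫ w' := by
    rw [← hx', act₂_orbit, ← hy']
    refine (orbit_eq_iff A (lift i₁ i₂) w₀ hW _ _).mpr ⟨h, ?_⟩
    refine CartesianMonoidalCategory.hom_ext _ _ ?_ ?_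
    · simp only [mul_fst, lift_fst, Category.assoc, one_mul]
      exact hh
    · simp only [mul_snd, lift_snd, Category.assoc, g₀]
      group
  obtain ⟨g, hg⟩ := hcc.descend g₀ fun {U'} p q epq => by
    refine act₂_free i₁ i₂ A w₀ hW hcov (w := (p ≫ c' ≫ c) ≫ w) ?_
    have hp := p ≫= hg₀
    have hq := q ≫= hg₀
    rw [comp_lift_assoc] at hp hq
    simp only [← Category.assoc] at hp hq epq ⊢
    rw [hp]
    conv_rhs => rw [epq]
    rw [hq, epq]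
  refine ⟨g, hcc.cancel ?_⟩
  rw [comp_lift_assoc, hg, hg₀]

include hQ hW hψ hcov in
theorem isPullback_act₂ : IsPullback (act₂ A).act.left (snd G₂ W).left ψ.left ψ.left := by
  have hp := act₂_proj a o A w₀ hcov ψ hψ
  refine ⟨⟨congrArg CommaMorphism.left hp⟩, ⟨PullbackCone.IsLimit.mk _ (fun s => ?_) ?_ ?_ ?_⟩⟩
  · have hw' : s.fst ≫ W.hom = s.snd ≫ W.hom := by
      rw [← Over.w ψ, ← Category.assoc, s.condition, Category.assoc]
    exact (lift (exists_translate i₁ i₂ a o hQ A w₀ hW hcov ψ hψ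
      (Over.homMk s.snd : Over.mk (s.snd ≫ W.hom) ⟶ W) (Over.homMk s.fst hw')
      (Over.OverMorphism.ext s.condition.symm)).choose (Over.homMk s.snd)).left
  · intro s
    have hw' : s.fst ≫ W.hom = s.snd ≫ W.hom := by
      rw [← Over.w ψ, ← Category.assoc, s.condition, Category.assoc]
    rw [← Over.comp_left]
    exact congrArg CommaMorphism.left (exists_translate i₁ i₂ a o hQ A w₀ hW hcov ψ hψ
      (Over.homMk s.snd : Over.mk (s.snd ≫ W.hom) ⟶ W) (Over.homMk s.fst hw')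
      (Over.OverMorphism.ext s.condition.symm)).choose_spec
  · intro s
    rw [← Over.comp_left, lift_snd]
    rfl
  · intro s m h1 h2
    have hm : m ≫ (G₂ ⊗ W).hom = s.snd ≫ W.hom := by rw [← Over.w (snd G₂ W), ← Category.assoc, h2]
    have hw' : s.fst ≫ W.hom = s.snd ≫ W.hom := by
      rw [← Over.w ψ, ← Category.assoc, s.condition, Category.assoc]
    let m' : Over.mk (s.snd ≫ W.hom) ⟶ G₂ ⊗ W := Over.homMk m hm
    have e2 : m' ≫ snd G₂ W = Over.homMk s.snd := Over.OverMorphism.ext h2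
    have e1 : m' ≫ (act₂ A).act = Over.homMk s.fst hw' := Over.OverMorphism.ext h1
    have hspec := (exists_translate i₁ i₂ a o hQ A w₀ hW hcov ψ hψ
      (Over.homMk s.snd : Over.mk (s.snd ≫ W.hom) ⟶ W) (Over.homMk s.fst hw')
      (Over.OverMorphism.ext s.condition.symm)).choose_spec
    have hm' : m' = lift (m' ≫ fst G₂ W) (Over.homMk s.snd) := by rw [← e2, lift_comp_fst_snd]
    rw [hm'] at e1
    show m'.left = _
    rw [hm', act₂_free i₁ i₂ A w₀ hW hcov (e1.trans hspec.symm)]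

end Main

end SpecialQuotLib
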